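import Groth.Agent.MultTypeImage.Image
import Groth.Agent.NonAffine.PartsImage
import Groth.Agent.NonAffine.IdComp
import Groth.Agent.NonAffine.BorelTori
import Groth.Agent.MaxTorCent.Normalizer
import Groth.Agent.FixTorus.TorusSmooth
import Groth.Agent.GrpSchLib.HomFlatLft
import Groth.Agent.MultTypeLib.SubgroupTransporter
import Groth.Agent.AlgSpGrp.Artin
import Groth.Agent.SolvGrp.Reductive4
import Groth.Agent.MaxTorTransp.Conj
import Groth.Agent.FpqcDescLib.Closed

/-! The image of a maximal torus under a homomorphism surjective on the geometric fibres is a maximal torus. -/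

set_option backward.isDefEq.respectTransparency false
set_option backward.isDefEq.respectTransparency.types false
set_option linter.style.haveILetI false
set_option autoImplicit false

universe u

open CategoryTheory Limits MonoidalCategory CartesianMonoidalCategory MonObj AlgebraicGeometry

namespace Groth.Agent.MultTypeImage

open GrpSchLib AGFLib AGFLib.Gen AGFLib.BorelExist SolvGrp NonAffine

section Field

variable {k : Type u} [Field k] [IsAlgClosed k]

local notation "PT" => 𝟙_ (Over (Spec (CommRingCat.of k)))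

/-- A surjective homomorphism is surjective on the identity components. -/
theorem exists_idSub_map {G H D D' : Over (Spec (CommRingCat.of k))} [GrpObj G] [GrpObj H] [GrpObj D] [GrpObj D']
    [Smooth G.hom] [QuasiCompact G.hom] [Smooth H.hom] [QuasiCompact H.hom] (u : G ⟶ H) [IsMonHom u]
    [Surjective u.left] (r : D ⟶ G) [IsMonHom r] [Smooth D.hom] [QuasiCompact D.hom] [ConnectedSpace D.left]
    (hR : ∃ R : Set (PT ⟶ G), R.Finite ∧ ∀ p : PT ⟶ G, ∃ s ∈ R, s⁻¹ * p ∈ rangePts r) (r' : D' ⟶ H) [IsMonHom r']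
    [IsClosedImmersion r'.left] [Smooth D'.hom] [QuasiCompact D'.hom] [ConnectedSpace D'.left]
    (w : D ⟶ D') [IsMonHom w] (hw : w ≫ r' = r ≫ u) : Surjective w.left := by
  classical
  haveI : Mono r' := mono_of_closedImmersion r'
  obtain ⟨R, hRf, hR⟩ := hR
  let sel : (PT ⟶ G) → (PT ⟶ D') := fun s => if h : ∃ d : PT ⟶ D', d ≫ r' = s ≫ u then h.choose else 1
  have htop : (rangePts w) = ⊤ := by
    refine eq_top_of_finite _ (ptsClosed_range w) (sel '' R) (hRf.image _) fun x => ?_
    haveI := AntiAffine.isSeparated_grp H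
    obtain ⟨y, hy⟩ := exists_of_mem_range u (x ≫ r') (u.left.surjective _)
    obtain ⟨s, hs, d, hd⟩ := hR y
    change d ≫ r = s⁻¹ * y at hd
    have hdu : (d ≫ w) ≫ r' = (s ≫ u)⁻¹ * (x ≫ r') := by
      rw [Category.assoc, hw, ← Category.assoc, hd, MonObj.mul_comp, GrpObj.inv_comp, hy]
    have hsd : ∃ z : PT ⟶ D', z ≫ r' = s ≫ u := ⟨x * (d ≫ w)⁻¹, by
      rw [MonObj.mul_comp, GrpObj.inv_comp, hdu]; group⟩
    refine ⟨sel s, ⟨s, hs, rfl⟩, d, ?_⟩
    show d ≫ w = (sel s)⁻¹ * x
    rw [← cancel_mono r', hdu, MonObj.mul_comp, GrpObj.inv_comp]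
    simp only [sel, dif_pos hsd]
    rw [hsd.choose_spec]
  haveI := AntiAffine.isSeparated_grp D'
  haveI : QuasiCompact w.left := by
    haveI : QuasiCompact (w.left ≫ D'.hom) := by rw [Over.w w]; infer_instance
    exact QuasiCompact.of_comp w.left D'.hom
  have e := eq_univ_of_forall_cp (GrpSchLib.HomClosedRange.isClosed_range w) fun g => by
    obtain ⟨x, rfl⟩ := (htop ▸ Subgroup.mem_top g : g ∈ rangePts w)
    exact ⟨cp x, rfl⟩
  exact ⟨Set.range_eq_univ.mp e⟩

/-- The image of a maximal torus under a surjective homomorphism is a maximal torus. -/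
theorem isMaxTorus_image {G H : Over (Spec (CommRingCat.of k))} [GrpObj G] [GrpObj H] [Smooth G.hom] [QuasiCompact G.hom]
    [Smooth H.hom] [QuasiCompact H.hom] (v : G ⟶ H) [IsMonHom v] [Surjective v.left]
    {T : Over (Spec (CommRingCat.of k))} [GrpObj T] {i : T ⟶ G} (hT : AGF.IsMaxTorus i)
    {M : Over (Spec (CommRingCat.of k))} [GrpObj M] (m : M ⟶ H) [IsMonHom m] [Mono m] (hM : Red.IsTorus M)
    (p : T ⟶ M) [Flat p.left] [Surjective p.left] (hp : p ≫ m = i ≫ v) :
    AGF.IsMaxTorus m := by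
  haveI := AntiAffine.isSeparated_grp G
  haveI := AntiAffine.isSeparated_grp H
  haveI := hT.1
  haveI := hT.2.1
  obtain ⟨D, _, r, hr, hrc, hDs, hDc, hDq, hR, huniv⟩ := exists_idSub G
  haveI := hr; haveI := hrc; haveI := hDs; haveI := hDc; haveI := hDq
  obtain ⟨D', _, r', hr', hrc', hDs', hDc', hDq', -, huniv'⟩ := exists_idSub H
  haveI := hr'; haveI := hrc'; haveI := hDs'; haveI := hDc'; haveI := hDq'
  haveI : Mono r := mono_of_closedImmersion r
  haveI : Mono r' := mono_of_closedImmersion r'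
  obtain ⟨w, hwm, hw⟩ := huniv' D (r ≫ v)
  haveI := hwm
  haveI := exists_idSub_map v r hR r' w hw
  obtain ⟨ha, hs, hc, -⟩ := torus_props hT.2.2.1
  haveI := ha; haveI := hs; haveI := hc
  haveI : QuasiCompact T.hom := inferInstance
  obtain ⟨haM, hsM, hcM, -⟩ := torus_props hM
  haveI := haM; haveI := hsM; haveI := hcM
  haveI : QuasiCompact M.hom := inferInstance
  obtain ⟨a, ham, har⟩ := huniv T i
  haveI := ham
  haveI : Mono (a ≫ r) := har.symm ▸ ‹Mono i›
  haveI : Mono a := mono_of_mono a r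
  obtain ⟨m₀, hm₀, hm₀r⟩ := huniv' M m
  haveI := hm₀
  haveI : Mono (m₀ ≫ r') := hm₀r.symm ▸ ‹Mono m›
  haveI : Mono m₀ := mono_of_mono m₀ r'
  haveI := AntiAffine.isSeparated_grp D'
  haveI : QuasiCompact m₀.left := by
    haveI : QuasiCompact (m₀.left ≫ D'.hom) := by rw [Over.w m₀]; infer_instance
    exact QuasiCompact.of_comp m₀.left D'.hom
  haveI : IsClosedImmersion m₀.left := AlgSpGrp.isClosedImmersion_of_mono m₀
  have hmax : AGF.IsMaxTorus m₀ :=
    NonAffine.isMaxTorus_image w (NonAffine.isMaxTorus_of_comp r (har.symm ▸ hT)) m₀ p (by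
      rw [← cancel_mono r', Category.assoc, hm₀r, Category.assoc, hw, ← Category.assoc, har, hp])
  refine ⟨inferInstance, inferInstance, hM, fun T' _ j _ _ f hT' hf => ?_⟩
  obtain ⟨haT, hsT, hcT, -⟩ := torus_props hT'
  haveI := haT; haveI := hsT; haveI := hcT
  haveI : QuasiCompact T'.hom := inferInstance
  obtain ⟨j₀, hj₀, hjr⟩ := huniv' T' j
  haveI := hj₀
  haveI : Mono (j₀ ≫ r') := hjr.symm ▸ ‹Mono j›
  haveI : Mono j₀ := mono_of_mono j₀ r'
  exact hmax.2.2.2 T' j₀ f hT' (by rw [← cancel_mono r', Category.assoc, hjr, hf, hm₀r])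

end Field

variable {S : Scheme.{u}}

theorem surjective_of_covers {X Y : Scheme.{u}} {p : X ⟶ Y} (h : FpqcDescLib.Covers p) : Surjective p := by
  obtain ⟨Z, r, hr⟩ := h
  refine ⟨fun y => ?_⟩
  obtain ⟨V, hV, hyV, -⟩ := exists_isAffineOpen_mem_and_subset (show y ∈ (⊤ : Y.Opens) from trivial)
  obtain ⟨W, -, hW⟩ := hr.exists_compact hV
  obtain ⟨z, -, hz⟩ := (hW.ge hyV : y ∈ _)
  exact ⟨r z, hz⟩

/-- The image of a maximal torus under a homomorphism surjective on the geometric fibres is a maximal torus. -/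
theorem exists_maximalTorus_image {G G' : Over S} [GrpObj G] [GrpObj G'] [Smooth G.hom] [IsSeparated G.hom]
    [QuasiCompact G.hom] [Smooth G'.hom] [IsSeparated G'.hom] [QuasiCompact G'.hom] (u : G ⟶ G') [IsMonHom u]
    (hu : ∀ s : S, Surjective ((Over.pullback (Red.geomPt s)).map u).left)
    {T : Over S} [GrpObj T] {i : T ⟶ G} (hT : Red.IsMaximalTorus i) :
    ∃ (T' : Over S) (_ : GrpObj T') (i' : T' ⟶ G') (v : T ⟶ T'), Red.IsMaximalTorus i' ∧ IsMonHom v ∧
      v ≫ i' = i ≫ u ∧ FpqcDescLib.Covers v.left ∧ Surjective v.left ∧ Flat v.left := by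
  haveI := hT.1; haveI := hT.2.1
  obtain ⟨Q, _, j, q, hQ, hj, hjm, hq, hcov, hqj⟩ := exists_torus_image hT.2.2.1 (i ≫ u)
  haveI := hj; haveI := hjm; haveI := hq
  haveI := surjective_of_covers hcov
  haveI : Smooth T.hom := FixTorus.smooth_of_isTorus hT.2.2.1
  haveI : Smooth Q.hom := FixTorus.smooth_of_isTorus hQ
  haveI : GeometricallyReduced Q.hom := IsogenyFibre.geometricallyReduced_of_smooth' Q.hom
  haveI : Flat q.left := (HomFlatLft.flat_hom q).1
  refine ⟨Q, inferInstance, j, q, ⟨hj, hjm, hQ, fun s T' _ l _ _ f hT' hf => ?_⟩, hq, hqj, hcov, inferInstance,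
    inferInstance⟩
  haveI : (Over.pullback (Red.geomPt s)).IsRightAdjoint := (Over.mapPullbackAdj (Red.geomPt s)).isRightAdjoint
  haveI : Smooth (Red.geomFibre s G).hom := inferInstanceAs (Smooth (pullback.snd G.hom (Red.geomPt s)))
  haveI : QuasiCompact (Red.geomFibre s G).hom := inferInstanceAs (QuasiCompact (pullback.snd G.hom (Red.geomPt s)))
  haveI : Smooth (Red.geomFibre s G').hom := inferInstanceAs (Smooth (pullback.snd G'.hom (Red.geomPt s)))
  haveI : QuasiCompact (Red.geomFibre s G').hom := inferInstanceAs (QuasiCompact (pullback.snd G'.hom (Red.geomPt s)))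
  haveI := hu s
  haveI : Flat ((Over.pullback (Red.geomPt s)).map q).left :=
    MorphismProperty.of_isPullback (P := @Flat) (HomSplitLocal.isPullback_map q (Red.geomPt s)) ‹Flat q.left›
  haveI : Surjective ((Over.pullback (Red.geomPt s)).map q).left :=
    MorphismProperty.of_isPullback (P := @Surjective) (HomSplitLocal.isPullback_map q (Red.geomPt s)) ‹Surjective q.left›
  have h := isMaxTorus_image ((Over.pullback (Red.geomPt s)).map u)
    (SolvGrp.isMaxTorus_of_isMaximalTorus (MaxTorCent.isMaximalTorus_geomFibre hT s))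
    ((Over.pullback (Red.geomPt s)).map j) (SolvGrp.isTorus_bc (Red.geomPt s) hQ)
    ((Over.pullback (Red.geomPt s)).map q) (by rw [← Functor.map_comp, hqj, Functor.map_comp])
  exact h.2.2.2 T' l f hT' hf

end Groth.Agent.MultTypeImage
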