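import Groth.Agent.MultTypeImage.Kernel
import Groth.Agent.MaxTorTransp.DescendMono

/-!
# The image of a homomorphism from a group of multiplicative type to a separated group
-/

universe u

open CategoryTheory CategoryTheory.Limits MonoidalCategory CartesianMonoidalCategory MonObj GrpObj AlgebraicGeometry
open Groth.Agent.HomRepLib Groth.Agent.DSPtsLib Groth.Agent.GrpSchLib Groth.Agent.TorusQI

namespace Groth.Agent.MultTypeImage

set_option backward.isDefEq.respectTransparency.types false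
set_option linter.style.haveILetI false
set_option autoImplicit false
set_option maxHeartbeats 800000

variable {S : Scheme.{u}} {G H : Over S} [GrpObj G] [GrpObj H]

/-- A subgroup given etale-locally by monomorphisms affine over the base. -/
theorem exists_subgroup_of_local_mono (P : ∀ {T : Scheme.{u}}, (T ⟶ G.left) → Prop) (hP : IsLocalSubgroup P)
    {κ : Type u} (S' : κ → Scheme.{u}) (f : ∀ s, S' s ⟶ S) (hf : ∀ s, Etale (f s)) (hs : ∀ x : S, ∃ s y, f s y = x)
    (K : ∀ s, Over (S' s)) (hK : ∀ s, IsAffineHom (K s).hom) (k : ∀ s, K s ⟶ Red.bc (f s) G) (hk : ∀ s, Mono (k s))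
    (hchar : ∀ s (Y : Over (S' s)) (y : Y ⟶ Red.bc (f s) G),
      P (theta (f s) y).left ↔ ∃ l, l ≫ k s = y) :
    ∃ (T : Over S) (_ : GrpObj T) (i : T ⟶ G), IsMonHom i ∧ Mono i ∧
      ∀ (Y : Over S) (h : Y ⟶ G), P h.left ↔ ∃ l, l ≫ i = h := by
  haveI := hf
  let π : (∐ S') ⟶ S := Sigma.desc f
  haveI hget : Etale π := IsZariskiLocalAtSource.sigmaDesc (P := @Etale) hf
  haveI : Surjective π := ⟨fun x => by
    obtain ⟨s, y, hy⟩ := hs x
    exact ⟨Sigma.ι S' s y, by rw [← Scheme.Hom.comp_apply, Sigma.ι_desc]; exact hy⟩⟩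
  have hπ : FpqcDescLib.IsCovering π := FpqcDescLib.isCovering_of_lfp π
  let q : (∐ fun s => (K s).left) ⟶ ∐ S' := Limits.Sigma.map fun s => (K s).hom
  let H' : Over (∐ S') := Over.mk q
  haveI : IsAffineHom H'.hom := DescLib.prop_sigmaMap @IsAffineHom (fun s => (K s).hom) hK
  let j'' : (∐ fun s => (K s).left) ⟶ G.left := Sigma.desc fun s => (k s).left ≫ pullback.fst G.hom (f s)
  let j' : H' ⟶ Red.bc π G := Over.homMk (pullback.lift j'' q (Sigma.hom_ext _ _ fun s => by
      simp only [j'', q, π, Sigma.ι_desc_assoc, Sigma.ι_map_assoc, Sigma.ι_desc, Category.assoc, pullback.condition]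
      rw [← Category.assoc]
      exact congrArg (· ≫ f s) (Over.w (k s)))) (pullback.lift_snd _ _ _)
  have hj1 : j'.left ≫ pullback.fst G.hom π = j'' := pullback.lift_fst _ _ _
  have hj2 : j'.left ≫ pullback.snd G.hom π = q := pullback.lift_snd _ _ _
  -- a point lifts iff it satisfies the predicate
  have loc : ∀ {T : Scheme.{u}} (a : T ⟶ ∐ fun s => (K s).left) (s : κ) (t : T ⟶ S' s)
      (_ : a ≫ q = t ≫ Sigma.ι S' s), ∃ l : Over.mk t ⟶ K s, l.left ≫ Sigma.ι (fun s => (K s).left) s = a := by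
    intro T a s t h
    let hp := DescLib.isPullback_sigmaMap (fun s => (K s).hom) s
    exact ⟨Over.homMk (hp.lift a t h) (hp.lift_snd _ _ _), hp.lift_fst _ _ _⟩
  haveI : Mono j'.left := ⟨fun {T} a b hab => by
    have hq : a ≫ q = b ≫ q := by rw [← hj2, reassoc_of% hab]
    refine Scheme.Cover.hom_ext ((sigmaOpenCover S').pullback₁ (a ≫ q)) _ _ fun s => ?_
    let c := pullback.fst (a ≫ q) (Sigma.ι S' s)
    obtain ⟨la, hla⟩ := loc (c ≫ a) s (pullback.snd _ _) ((Category.assoc _ _ _).trans pullback.condition)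
    obtain ⟨lb, hlb⟩ := loc (c ≫ b) s (pullback.snd _ _)
      (((Category.assoc _ _ _).trans (congrArg (c ≫ ·) hq.symm)).trans pullback.condition)
    haveI := hk s
    have : la = lb := by
      rw [← cancel_mono (k s)]
      refine GrpLimLib.hom_ext₁ ?_
      have e1 : ∀ (l : Over.mk (pullback.snd (a ≫ q) (Sigma.ι S' s)) ⟶ K s),
          (l ≫ k s).left ≫ pullback.fst G.hom (f s) = (l.left ≫ Sigma.ι (fun s => (K s).left) s) ≫ j'' := fun l => by
        simp only [j'', Over.comp_left, Category.assoc, Sigma.ι_desc]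
      rw [e1, e1, hla, hlb, Category.assoc, Category.assoc, ← hj1, reassoc_of% hab]
    show c ≫ a = c ≫ b
    rw [← hla, ← hlb, this]⟩
  haveI : Mono j' := Over.mono_of_mono_left _
  have sharp : ∀ (T : Scheme.{u}) (a : T ⟶ pullback G.hom π),
      (∃ l, l ≫ j'.left = a) ↔ P (a ≫ pullback.fst G.hom π) := by
    refine fun T a => ⟨?_, fun ha => ?_⟩
    · rintro ⟨l, rfl⟩
      rw [Category.assoc, hj1]
      refine hP.comp l (hP.of_openCover (sigmaOpenCover _) fun s => ?_)
      have h0 := (hchar s _ (k s)).2 ⟨𝟙 _, Category.id_comp _⟩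
      rw [theta_left] at h0
      show P (Sigma.ι (fun s => (K s).left) s ≫ j'')
      simp only [j'', Sigma.ι_desc]
      exact h0
    · let 𝒰 := (sigmaOpenCover S').pullback₁ (a ≫ pullback.snd G.hom π)
      refine exists_fac_of_openCover j'.left a 𝒰 fun s => ?_
      let c := pullback.fst (a ≫ pullback.snd G.hom π) (Sigma.ι S' s)
      let t := pullback.snd (a ≫ pullback.snd G.hom π) (Sigma.ι S' s)
      have ht : c ≫ a ≫ pullback.snd G.hom π = t ≫ Sigma.ι S' s := pullback.condition
      let y : Over.mk t ⟶ Red.bc (f s) G :=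
        Over.homMk (pullback.lift (c ≫ a ≫ pullback.fst G.hom π) t (by
          simp only [Category.assoc, pullback.condition]
          rw [reassoc_of% ht, Sigma.ι_desc])) (pullback.lift_snd _ _ _)
      have hy : P (theta (f s) y).left := by
        rw [theta_left]
        show P (pullback.lift _ _ _ ≫ pullback.fst G.hom (f s))
        rw [pullback.lift_fst]
        exact hP.comp c ha
      obtain ⟨l, hl⟩ := (hchar s _ y).1 hy
      refine ⟨l.left ≫ Sigma.ι (fun s => (K s).left) s, pullback.hom_ext ?_ ?_⟩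
      · show _ = (c ≫ a) ≫ _
        rw [Category.assoc, Category.assoc, hj1, Category.assoc]
        simp only [j'', Sigma.ι_desc]
        rw [← Category.assoc]
        erw [← Over.comp_left, hl]
        exact pullback.lift_fst _ _ _
      · show _ = (c ≫ a) ≫ _
        rw [Category.assoc, Category.assoc, hj2, Category.assoc]
        simp only [q, Sigma.ι_map]
        rw [← Category.assoc]
        exact (congrArg (· ≫ Sigma.ι S' s) (Over.w l)).trans ht.symm
  obtain ⟨Z₀, i, hi, hiff⟩ := MaxTorTransp.exists_descend_mono j' hπ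
    (fun T a b e ha => by rw [sharp] at ha ⊢; rwa [← e])
  haveI := hi
  let T : Over S := Over.mk (i ≫ G.hom)
  let ι' : T ⟶ G := Over.homMk i rfl
  haveI : Mono ι'.left := inferInstanceAs (Mono i)
  haveI : Mono ι' := Over.mono_of_mono_left _
  let g := pullback.fst G.hom π
  have hcov : FpqcDescLib.Covers g := FpqcDescLib.covers_of_isCovering (FpqcDescLib.isCovering_of_lfp g)
  have hall : ∀ (Y : Over S) (h : Y ⟶ G), P h.left ↔ ∃ l, l ≫ ι' = h := by
    refine fun Y h => ⟨fun hh => ?_, ?_⟩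
    · have h1 := hP.comp (pullback.fst h.left g) hh
      rw [pullback.condition] at h1
      obtain ⟨m, hm⟩ := (hiff _ _).1 ((sharp _ _).2 h1)
      obtain ⟨l, hl⟩ := exists_fac_of_covers i h.left (hcov.pullback h.left _ _ (IsPullback.of_hasPullback h.left g)) m
        (hm.trans pullback.condition.symm)
      exact ⟨Over.homMk l (by show l ≫ i ≫ G.hom = Y.hom; rw [reassoc_of% hl, Over.w h]), Over.OverMorphism.ext hl⟩
    · rintro ⟨l, rfl⟩
      have h1 := (sharp _ _).1 ((hiff _ (pullback.snd i g)).2 ⟨pullback.fst i g, pullback.condition⟩)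
      rw [← pullback.condition] at h1
      rw [Over.comp_left]
      exact hP.comp l.left (hP.of_covers (pullback.fst i g) inferInstance inferInstance inferInstance h1)
  obtain ⟨e1, he1⟩ := (hall (𝟙_ (Over S)) η[G]).1 (by
    rw [show η[G] = (1 : 𝟙_ (Over S) ⟶ G) from (by rw [Hom.one_def, toUnit_unique (toUnit _) (𝟙 _), Category.id_comp])]
    exact hP.one _)
  have hkT : ∀ (Y : Over S) (l : Y ⟶ T), P (l ≫ ι').left := fun Y l => (hall Y _).2 ⟨l, rfl⟩
  obtain ⟨μT, hμT⟩ := (hall (T ⊗ T) _).1 (hP.mul (hkT _ (fst T T)) (hkT _ (snd T T)))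
  obtain ⟨iT, hiT⟩ := (hall T ι'⁻¹).1 (hP.inv ((hall T ι').2 ⟨𝟙 _, Category.id_comp _⟩))
  obtain ⟨strT, hmon⟩ := exists_grpObj_of_mono ι' e1 he1 μT hμT iT hiT
  exact ⟨T, strT, ι', hmon, inferInstance, hall⟩

/-- A homomorphism of groups with trivial kernel is a monomorphism. -/
theorem mono_of_ker {A : Over S} [GrpObj A] (m : A ⟶ G) [IsMonHom m]
    (h : ∀ (Y : Over S) (z : Y ⟶ A), z ≫ m = 1 → z = 1) : Mono m :=
  ⟨fun {Y} a b hab => mul_inv_eq_one.mp (h Y _ (by rw [MonObj.mul_comp, GrpObj.inv_comp, hab, mul_inv_cancel]))⟩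

/-- Etale-locally the image is diagonalisable, mapped in by a monomorphism. -/
theorem exists_image_piece [IsSeparated G.hom] [LocallyOfFiniteType G.hom] (hH : SGA3x.IsMultTypeFT H)
    (u : H ⟶ G) [IsMonHom u] (x : S) :
    ∃ (S' : Scheme.{u}) (f : S' ⟶ S), Etale f ∧ (∃ y, f y = x) ∧ ∃ (K : Type) (_ : AddCommGroup K)
      (m : Red.DS S' K ⟶ Red.bc f G), IsAffineHom (Red.DS S' K).hom ∧ Mono m ∧
        ∀ (Y : Over S') (y : Y ⟶ Red.bc f G), InImg u (theta f y).left ↔ ∃ l, l ≫ m = y := by
  obtain ⟨S', f, hf, hx, M, N, iM, iN, ψ, c, hM, hN, hψ, hc, hci, hker⟩ := exists_kernel_chart hH u x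
  haveI := hc; haveI := hci; haveI := hf
  haveI : Module.Finite ℤ M := Module.Finite.iff_addGroup_fg.mpr hM
  haveI hKfg : AddGroup.FG ψ.ker :=
    Module.Finite.iff_addGroup_fg.mp (inferInstanceAs (Module.Finite ℤ (AddSubgroup.toIntSubmodule ψ.ker)))
  let q := Red.DSmap S' ψ.ker.subtype
  haveI : IsMonHom q := S5427.isMonHom_DSmap _ _
  obtain ⟨hfl, hsurj⟩ := flat_surjective_DSmap (S := S') ψ.ker.subtype ψ.ker.subtype_injective
  haveI := hfl
  haveI := hsurj
  haveI := lfp_DSmap (S := S') ψ.ker.subtype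
  have hq : FpqcDescLib.Covers q.left := FpqcDescLib.covers_of_isCovering (FpqcDescLib.isCovering_of_lfp _)
  have hqK : ∀ {Y : Over S'} (y : Y ⟶ Red.DS S' M), y ≫ q = 1 ↔ ∀ m, ψ m = 0 → ev y m = 1 := fun {Y} y =>
    ⟨fun h m hm => by rw [show ev y m = ev (y ≫ q) ⟨m, hm⟩ from (ev_DSmap y ψ.ker.subtype ⟨m, hm⟩).symm, h, ev_one],
      fun h => ev_ext fun k => by rw [ev_DSmap, ev_one]; exact h _ k.2⟩
  let v := c ≫ (Over.pullback f).map u
  haveI : IsMonHom v := inferInstanceAs (IsMonHom (c ≫ (Over.pullback f).map u))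
  have hv : ∀ (Y : Over S') (z : Y ⟶ Red.DS S' M), z ≫ v = 1 ↔ ∀ m, ψ m = 0 → ev z m = 1 := fun Y z => by
    rw [← hker Y z, inKer_iff, ← HomUnitLocus.theta_comp_map, ← HomUnitLocus.theta_one f Y,
      (theta_bijective f).injective.eq_iff, Category.assoc]
  obtain ⟨m, hmm, hm⟩ := exists_desc_hom q hq v fun Y y hy => (hv Y y).2 ((hqK y).1 hy)
  haveI := hmm
  haveI : Mono m := mono_of_ker m fun Y z hz => by
    let P : Over S' := Over.mk (pullback.fst z.left q.left ≫ Y.hom)
    let p : P ⟶ Y := Over.homMk (pullback.fst z.left q.left) rfl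
    have hp : FpqcDescLib.Covers p.left :=
      hq.pullback z.left p.left (pullback.snd z.left q.left) (IsPullback.of_hasPullback z.left q.left)
    haveI := hp.over_epi
    let w : P ⟶ Red.DS S' M := Over.homMk (pullback.snd z.left q.left) (by
      show pullback.snd z.left q.left ≫ (Red.DS S' M).hom = pullback.fst z.left q.left ≫ Y.hom
      rw [← Over.w q, ← Category.assoc, ← pullback.condition, Category.assoc, Over.w z])
    have hw : w ≫ q = p ≫ z := Over.OverMorphism.ext pullback.condition.symm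
    rw [← cancel_epi p, MonObj.comp_one, ← hw, hqK, ← hv, ← hm, ← Category.assoc, hw, Category.assoc, hz,
      MonObj.comp_one]
  refine ⟨S', f, hf, hx, ψ.ker, inferInstance, m, isAffineHom_DS S' ψ.ker, inferInstance, fun Y y => ⟨?_, ?_⟩⟩
  · rintro ⟨P, p, g1, g2, g3, e, he⟩
    haveI := g1; haveI := g2; haveI := g3
    let P' : Over S' := Over.mk (p ≫ Y.hom)
    let p' : P' ⟶ Y := Over.homMk p rfl
    obtain ⟨a, ha⟩ := (theta_bijective f).surjective (Over.homMk e (by
      show e ≫ H.hom = (p ≫ Y.hom) ≫ f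
      rw [← Over.w u, ← Category.assoc, ← he, Category.assoc, Category.assoc, Over.w (theta f y)]
      rfl) : (Over.map f).obj P' ⟶ H)
    have h' : p' ≫ y = a ≫ (Over.pullback f).map u := (theta_bijective f).injective (by
      rw [HomUnitLocus.theta_comp_map, ha, theta_comp]
      exact Over.OverMorphism.ext he)
    haveI : Mono m.left := Over.mono_left_of_mono m
    obtain ⟨l, hl⟩ := exists_fac_of_covers m.left y.left
      (FpqcDescLib.covers_of_isCovering (FpqcDescLib.isCovering_of_lfp p)) ((a ≫ inv c) ≫ q).left (by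
        have h'' : ((a ≫ inv c) ≫ q) ≫ m = p' ≫ y := by
          rw [h', Category.assoc, hm]; simp [v]
        exact congrArg (fun k => k.left) h'')
    exact ⟨Over.homMk l (by rw [← Over.w m, reassoc_of% hl]; exact Over.w y), Over.OverMorphism.ext hl⟩
  · rintro ⟨l, rfl⟩
    let P' : Over S' := Over.mk (pullback.fst l.left q.left ≫ Y.hom)
    let p' : P' ⟶ Y := Over.homMk (pullback.fst l.left q.left) rfl
    let w : P' ⟶ Red.DS S' M := Over.homMk (pullback.snd l.left q.left) (by
      show pullback.snd l.left q.left ≫ (Red.DS S' M).hom = pullback.fst l.left q.left ≫ Y.hom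
      rw [← Over.w q, ← Category.assoc, ← pullback.condition, Category.assoc, Over.w l])
    refine ⟨P'.left, p'.left, inferInstanceAs (Flat (pullback.fst l.left q.left)),
      inferInstanceAs (Surjective (pullback.fst l.left q.left)),
      inferInstanceAs (LocallyOfFinitePresentation (pullback.fst l.left q.left)), (theta f (w ≫ c)).left, ?_⟩
    have h' : p' ≫ l ≫ m = (w ≫ c) ≫ (Over.pullback f).map u := by
      have hc' : p' ≫ l = w ≫ q := Over.OverMorphism.ext pullback.condition
      rw [← Category.assoc, hc', Category.assoc, hm]; simp [v]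
    have h2 : (Over.map f).map p' ≫ theta f (l ≫ m) = theta f (w ≫ c) ≫ u := by
      rw [← theta_comp, ← HomUnitLocus.theta_comp_map, h']
    exact congrArg (fun z => z.left) h2

/-- The image of a group of multiplicative type in a separated group: the homomorphism is a covering onto a
subgroup and its fibres are the cosets of the kernel, which is of multiplicative type. -/
theorem exists_image [IsSeparated G.hom] [LocallyOfFiniteType G.hom] (hH : SGA3x.IsMultTypeFT H) (u : H ⟶ G)
    [IsMonHom u] :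
    ∃ (K : Over S) (_ : GrpObj K) (i : K ⟶ H) (Q : Over S) (_ : GrpObj Q) (j : Q ⟶ G) (q : H ⟶ Q),
      IsMonHom i ∧ Mono i ∧ SGA3x.IsMultTypeFT K ∧ IsMonHom j ∧ Mono j ∧ IsMonHom q ∧
      FpqcDescLib.Covers q.left ∧ FpqcDescLib.IsCosetMap i q ∧ q ≫ j = u ∧
      ∀ (Y : Over S) (h : Y ⟶ G), InImg u h.left ↔ ∃ l, l ≫ j = h := by
  obtain ⟨K, iK, i, hi, him, hK, hker⟩ := exists_kernel hH u
  choose S' f hf hy N iN k hN hk hchar using fun x => exists_image_piece hH u x
  obtain ⟨Q, iQ, j, hj, hjm, hall⟩ := exists_subgroup_of_local_mono (fun c => InImg u c) (isLocalSubgroup_inImg u)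
    S' f hf (fun x => ⟨x, hy x⟩) (fun x => Red.DS (S' x) (N x)) hN k hk hchar
  haveI := hi; haveI := hj; haveI := hjm
  obtain ⟨q, hq⟩ := (hall H u).1 ((inImg_iff u _).2 ⟨H, 𝟙 H, by rw [Over.id_left]; infer_instance,
    by rw [Over.id_left]; infer_instance, by rw [Over.id_left]; infer_instance, 𝟙 H, rfl⟩)
  haveI : IsMonHom q :=
    { one_hom := by rw [← cancel_mono j, Category.assoc, hq, IsMonHom.one_hom, IsMonHom.one_hom]
      mul_hom := by
        rw [← cancel_mono j, Category.assoc, Category.assoc, hq, IsMonHom.mul_hom u, IsMonHom.mul_hom j,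
          MonoidalCategory.tensorHom_comp_tensorHom_assoc, hq] }
  obtain ⟨P, p, g1, g2, g3, e, he⟩ := (inImg_iff u _).1 ((hall Q j).2 ⟨𝟙 Q, Category.id_comp j⟩)
  have hep : e ≫ q = p := by rw [← cancel_mono j, Category.assoc, hq, he]
  haveI := g1; haveI := g2; haveI := g3
  refine ⟨K, iK, i, Q, iQ, j, q, hi, him, hK, hj, hjm, inferInstance, ⟨P.left, e.left, ?_⟩,
    isCosetMap_of_mono i u hker q j hq, hq, hall⟩
  rw [← Over.comp_left, hep]
  exact FpqcDescLib.isCovering_of_lfp p.left

/-- The image of a torus is a torus. -/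
theorem exists_torus_image [IsSeparated G.hom] [LocallyOfFiniteType G.hom] (hH : Red.IsTorus H) (u : H ⟶ G)
    [IsMonHom u] :
    ∃ (Q : Over S) (_ : GrpObj Q) (j : Q ⟶ G) (q : H ⟶ Q), Red.IsTorus Q ∧ IsMonHom j ∧ Mono j ∧ IsMonHom q ∧
      FpqcDescLib.Covers q.left ∧ q ≫ j = u := by
  obtain ⟨K, _, i, Q, iQ, j, q, hi, him, hK, hj, hjm, hqm, hq, hc, hqj, -⟩ :=
    exists_image (isMultTypeFT_of_isTorus hH) u
  haveI := hi; haveI := him; haveI := hqm
  exact ⟨Q, iQ, j, q, isTorus_quot hH hK i q hc hq, hj, hjm, hqm, hq, hqj⟩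

end Groth.Agent.MultTypeImage
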