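import Groth.Agent.TorusQI.KerImage
import Groth.Agent.GrpSchLib.KernelGrp
import Groth.Agent.MultTypeQI.ClosedSubgroup
import Groth.Agent.GrpSchLib.HomMonoLocus
import Groth.Agent.GrpSchLib.HomSplitLocus
import Groth.Agent.GrpLimLib.Basic

/-!
# The kernel of a homomorphism from a group of multiplicative type to a separated group
-/

universe u

open CategoryTheory CategoryTheory.Limits MonoidalCategory CartesianMonoidalCategory MonObj GrpObj AlgebraicGeometry
open Groth.Agent.HomRepLib Groth.Agent.DSPtsLib Groth.Agent.GrpSchLib Groth.Agent.TorusQI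

namespace Groth.Agent.MultTypeImage

set_option backward.isDefEq.respectTransparency.types false
set_option linter.style.haveILetI false
set_option autoImplicit false
set_option maxHeartbeats 800000

variable {S : Scheme.{u}} {G : Over S} [GrpObj G] {M : Type} [AddCommGroup M]

/-- The kernel over a geometric point is cut out by a subgroup of characters. -/
theorem exists_ker_geom [AddGroup.FG M] [IsSeparated G.hom] (v : Red.DS S M ⟶ G) [IsMonHom v]
    {Ω : Type u} [Field Ω] [IsAlgClosed Ω] (b : Spec (CommRingCat.of Ω) ⟶ S) :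
    ∃ (N : Type) (_ : AddCommGroup N) (_ : AddGroup.FG N) (ψ : M →+ N), Function.Surjective ψ ∧
      ∀ (Y : Over S) (q : Y.left ⟶ Spec (CommRingCat.of Ω)), q ≫ b = Y.hom → ∀ y : Y ⟶ Red.DS S M,
        (y ≫ v = 1 ↔ ∀ m, ψ m = 0 → ev y m = 1) := by
  obtain ⟨κ, hκm, hκi, hκ⟩ := exists_bcPt b M
  let vb : Red.DS (Spec (CommRingCat.of Ω)) M ⟶ Red.bc b G := κ ≫ (Over.pullback b).map v
  haveI : IsMonHom vb := inferInstanceAs (IsMonHom (κ ≫ (Over.pullback b).map v))
  haveI : IsSeparated (Red.bc b G).hom := inferInstanceAs (IsSeparated (pullback.snd G.hom b))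
  obtain ⟨K, _, n, hn, hnc, -, hker⟩ := GrpSchLib.exists_kernel vb
  haveI := hn
  haveI := hnc
  haveI : Mono n.left := inferInstance
  haveI : Mono n := Over.mono_of_mono_left _
  haveI := MultTypeLfp.lfp (isMultTypeFT_DS (S := Spec (CommRingCat.of Ω)) M)
  haveI : LocallyOfFiniteType K.hom := by rw [← Over.w n]; infer_instance
  haveI : Subsingleton ↥(Spec (CommRingCat.of Ω)) := inferInstanceAs (Subsingleton (PrimeSpectrum _))
  haveI : LocallyOfFinitePresentation K.hom := inferInstance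
  have hK : SGA3x.IsMultTypeFT K := MultTypeQI.isMultTypeFT_of_closedSubgroup (isMultTypeFT_DS M) n hnc
    inferInstance inferInstance
  obtain ⟨N, iN, hN, ⟨e⟩⟩ := exists_diag_geom hK (𝟙 (Spec (CommRingCat.of Ω)))
  obtain ⟨e'⟩ := nonempty_bc_id K
  let ei : Red.DS (Spec (CommRingCat.of Ω)) N ⟶ K := (e.inv ≫ e'.hom).hom.hom
  haveI : IsMonHom ei := (e.inv ≫ e'.hom).hom.isMonHom_hom
  haveI : IsIso ei := ⟨(e'.inv ≫ e.hom).hom.hom,
    congrArg (fun k => k.hom.hom) (show (e.inv ≫ e'.hom) ≫ e'.inv ≫ e.hom = 𝟙 _ by simp),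
    congrArg (fun k => k.hom.hom) (show (e'.inv ≫ e.hom) ≫ e.inv ≫ e'.hom = 𝟙 _ by simp)⟩
  obtain ⟨ψ, hψ, hf⟩ := exists_surjective_of_mono (ei ≫ n)
  refine ⟨N, iN, hN, ψ, hψ, fun Y q hq y => ?_⟩
  let Y' : Over (Spec (CommRingCat.of Ω)) := Over.mk q
  let ε : (Over.map b).obj Y' ⟶ Y := Over.homMk (𝟙 Y.left) (by
    show 𝟙 _ ≫ Y.hom = q ≫ b
    rw [Category.id_comp, hq])
  haveI : IsIso ε.left := inferInstanceAs (IsIso (𝟙 Y.left))
  haveI : IsIso ((Over.forget S).map ε) := ‹IsIso ε.left›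
  haveI : IsIso ε := isIso_of_reflects_iso ε (Over.forget S)
  obtain ⟨y', hy'⟩ := (theta_bijective b).surjective (ε ≫ y)
  let z : Y' ⟶ Red.DS (Spec (CommRingCat.of Ω)) M := y' ≫ inv κ
  have hev : ∀ m, ev z m = ev y m := fun m => by
    have h1 : ev (theta b (z ≫ κ)) m = ev z m := hκ Y' z m
    rw [show z ≫ κ = y' by simp [z], hy', ev_comp] at h1
    rw [← h1]
    show ((Scheme.Hom.appTop (𝟙 Y.left)).hom _) = _
    simp
  have hz : z ≫ vb = 1 ↔ y ≫ v = 1 := by
    rw [← (theta_bijective b).injective.eq_iff, HomUnitLocus.theta_one,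
      show z ≫ vb = y' ≫ (Over.pullback b).map v by simp [z, vb], HomUnitLocus.theta_comp_map, hy',
      Category.assoc, ← cancel_epi ε (g := y ≫ v), MonObj.comp_one]
  rw [← hz]
  constructor
  · intro h m hm
    obtain ⟨l, hl⟩ : ∃ l, l ≫ n = z := ⟨hker.lift z (toUnit _) h, hker.lift_fst _ _ _⟩
    rw [← hev, ← hl, show l ≫ n = (l ≫ inv ei) ≫ ei ≫ n by simp, hf, ev_DSmap, hm, ev_zero]
  · intro h
    obtain ⟨l, hl⟩ := exists_fac_DSmap hψ z fun m hm => (hev m).trans (h m hm)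
    rw [← hl, ← hf, Category.assoc, Category.assoc, show n ≫ vb = 1 from hker.w, MonObj.comp_one, MonObj.comp_one]

/-- A homomorphism killing the kernel of a covering homomorphism descends along it. -/
theorem exists_desc_hom {A B : Over S} [GrpObj A] [GrpObj B] (q : A ⟶ B) [IsMonHom q] (hq : FpqcDescLib.Covers q.left)
    (v : A ⟶ G) [IsMonHom v] (hv : ∀ (Y : Over S) (y : Y ⟶ A), y ≫ q = 1 → y ≫ v = 1) :
    ∃ m : B ⟶ G, IsMonHom m ∧ q ≫ m = v := by
  obtain ⟨m, hm, -⟩ := hq.over_desc v fun T a b hab => by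
    have h1 : (a⁻¹ * b) ≫ q = 1 := by rw [MonObj.mul_comp, GrpObj.inv_comp, hab, inv_mul_cancel]
    have h2 := hv T _ h1
    rw [MonObj.mul_comp, GrpObj.inv_comp, inv_mul_eq_one] at h2
    exact h2
  haveI := hq.over_epi
  refine ⟨m, { one_hom := ?_, mul_hom := ?_ }, hm⟩
  · rw [← IsMonHom.one_hom q, Category.assoc, hm, IsMonHom.one_hom]
  · haveI := (FpqcDescLib.covers_whiskerRight hq A).over_epi
    haveI := (FpqcDescLib.covers_whiskerLeft hq B).over_epi
    haveI : Epi (q ⊗ₘ q) := by rw [MonoidalCategory.tensorHom_def]; exact epi_comp _ _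
    rw [← cancel_epi (q ⊗ₘ q), ← Category.assoc, ← IsMonHom.mul_hom q, Category.assoc, hm, IsMonHom.mul_hom v,
      ← Category.assoc, MonoidalCategory.tensorHom_comp_tensorHom, hm]

/-- If the subgroup cut out by the kernel at a point is killed everywhere, it is the kernel near the point. -/
theorem exists_kernel_nhd_of_killed [AddGroup.FG M] [IsSeparated G.hom] (v : Red.DS S M ⟶ G) [IsMonHom v]
    (K : AddSubgroup M)
    (hv : ∀ (Y : Over S) (y : Y ⟶ Red.DS S M), (∀ m ∈ K, ev y m = 1) → y ≫ v = 1)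
    {Ω : Type u} [Field Ω] (b : Spec (CommRingCat.of Ω) ⟶ S)
    (hb : ∀ (Y : Over S) (q : Y.left ⟶ Spec (CommRingCat.of Ω)), q ≫ b = Y.hom → ∀ y : Y ⟶ Red.DS S M,
        y ≫ v = 1 → ∀ m ∈ K, ev y m = 1) :
    ∃ U : S.Opens, b (IsLocalRing.closedPoint Ω) ∈ U ∧
      ∀ (Y : Over S) (y : Y ⟶ Red.DS S M), Set.range Y.hom ⊆ (U : Set S) → y ≫ v = 1 → ∀ m ∈ K, ev y m = 1 := by
  haveI : Module.Finite ℤ M := Module.Finite.iff_addGroup_fg.mpr ‹_›
  haveI : AddGroup.FG K :=
    Module.Finite.iff_addGroup_fg.mp (inferInstanceAs (Module.Finite ℤ (AddSubgroup.toIntSubmodule K)))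
  let q := Red.DSmap S K.subtype
  haveI : IsMonHom q := S5427.isMonHom_DSmap _ _
  obtain ⟨hfl, hsurj⟩ := flat_surjective_DSmap (S := S) K.subtype K.subtype_injective
  haveI := hfl
  haveI := hsurj
  haveI := lfp_DSmap (S := S) K.subtype
  have hq : FpqcDescLib.Covers q.left := FpqcDescLib.covers_of_isCovering (FpqcDescLib.isCovering_of_lfp _)
  have hqK : ∀ {Y : Over S} (y : Y ⟶ Red.DS S M), y ≫ q = 1 ↔ ∀ m ∈ K, ev y m = 1 := fun {Y} y =>
    ⟨fun h m hm => by rw [show ev y m = ev (y ≫ q) ⟨m, hm⟩ from (ev_DSmap y K.subtype ⟨m, hm⟩).symm, h, ev_one],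
      fun h => ev_ext fun k => by rw [ev_DSmap, ev_one]; exact h _ k.2⟩
  obtain ⟨m, hmm, hm⟩ := exists_desc_hom q hq v fun Y y hy => hv Y y ((hqK y).1 hy)
  haveI := hmm
  haveI := hq.over_epi
  have hinj : HomMonoLocus.Inj m b := by
    intro Y t x hx
    let P : Over S := Over.mk (pullback.fst x.left q.left ≫ Y.hom)
    let p : P ⟶ Y := Over.homMk (pullback.fst x.left q.left) rfl
    have hp : FpqcDescLib.Covers p.left :=
      hq.pullback x.left p.left (pullback.snd x.left q.left) (IsPullback.of_hasPullback x.left q.left)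
    haveI := hp.over_epi
    let z : P ⟶ Red.DS S M := Over.homMk (pullback.snd x.left q.left) (by
      show pullback.snd x.left q.left ≫ (Red.DS S M).hom = pullback.fst x.left q.left ≫ Y.hom
      rw [← Over.w q, ← Category.assoc, ← pullback.condition, Category.assoc, Over.w x])
    have hz : z ≫ q = p ≫ x := Over.OverMorphism.ext pullback.condition.symm
    rw [← cancel_epi p, MonObj.comp_one, ← hz, hqK]
    refine hb P (p.left ≫ t.left) (by
      rw [Category.assoc]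
      exact congrArg (p.left ≫ ·) (Over.w t)) z ?_
    rw [← hm, ← Category.assoc, hz, Category.assoc, hx, MonObj.comp_one]
  obtain ⟨U, hmem, hU⟩ := HomMonoLocus.main (u := m) (isMultTypeFT_DS K)
  refine ⟨U, (hmem _).2 (HomSplitLocus.residue_of_field (fun g => HomMonoLocus.Inj m g)
      (fun l _ _ hl h => HomMonoLocus.Inj.of_covers l hl h) b hinj), fun Y y hY h => (hqK y).1 ?_⟩
  refine hU Y (Over.homMk (IsOpenImmersion.lift U.ι Y.hom (by rwa [Scheme.Opens.range_ι]))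
    (IsOpenImmersion.lift_fac _ _ _)) _ ?_
  rw [Category.assoc, hm, h]

/-- Near each point the kernel is cut out by a subgroup of characters. -/
theorem exists_kernel_nhd [AddGroup.FG M] [IsSeparated G.hom] [LocallyOfFiniteType G.hom] (v : Red.DS S M ⟶ G)
    [IsMonHom v] (s : S) :
    ∃ (U : S.Opens) (N : Type) (_ : AddCommGroup N) (_ : AddGroup.FG N) (ψ : M →+ N), s ∈ U ∧
      Function.Surjective ψ ∧ ∀ (Y : Over S) (y : Y ⟶ Red.DS S M), Set.range Y.hom ⊆ (U : Set S) →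
        (y ≫ v = 1 ↔ ∀ m, ψ m = 0 → ev y m = 1) := by
  obtain ⟨N, iN, hN, ψ, hψ, hb⟩ := exists_ker_geom v (Red.geomPt s)
  let w : Red.DS S N ⟶ G := Red.DSmap S ψ ≫ v
  haveI : IsMonHom (Red.DSmap S ψ) := S5427.isMonHom_DSmap _ _
  haveI : IsMonHom w := inferInstanceAs (IsMonHom (Red.DSmap S ψ ≫ v))
  obtain ⟨W, -, hmem, hW⟩ := HomUnitLocus.main (u := w) (isMultTypeFT_DS N) (Or.inr inferInstance)
  have hs : s ∈ W := by
    rw [← geomPt_closedPoint s, hmem, ← HomUnitLocus.triv_iff_of_field]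
    intro Y t z
    rw [show z ≫ w = (z ≫ Red.DSmap S ψ) ≫ v from (Category.assoc _ _ _).symm, hb Y t.left (Over.w t)]
    intro m hm
    rw [ev_DSmap, hm, ev_zero]
  -- restrict to the locus where the subgroup is killed
  obtain ⟨κ, hκm, hκi, hκ⟩ := exists_bcPt W.ι M
  let vW : Red.DS (W : Scheme.{u}) M ⟶ Red.bc W.ι G := κ ≫ (Over.pullback W.ι).map v
  haveI : IsMonHom vW := inferInstanceAs (IsMonHom (κ ≫ (Over.pullback W.ι).map v))
  haveI : IsSeparated (Red.bc W.ι G).hom := inferInstanceAs (IsSeparated (pullback.snd G.hom W.ι))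
  have hvW : ∀ (Y : Over (W : Scheme.{u})) (y : Y ⟶ Red.DS (W : Scheme.{u}) M),
      y ≫ vW = 1 ↔ theta W.ι (y ≫ κ) ≫ v = 1 := fun Y y => by
    rw [← HomUnitLocus.theta_comp_map, ← HomUnitLocus.theta_one W.ι Y, (theta_bijective _).injective.eq_iff,
      Category.assoc]
  let b : Spec (CommRingCat.of (AlgebraicClosure (S.residueField s))) ⟶ (W : Scheme.{u}) :=
    IsOpenImmersion.lift W.ι (Red.geomPt s) (by
      rw [Scheme.Opens.range_ι]
      rintro _ ⟨z, rfl⟩
      rw [Subsingleton.elim (α := PrimeSpectrum _) z (IsLocalRing.closedPoint _), geomPt_closedPoint]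
      exact hs)
  obtain ⟨U, hU, hUK⟩ := exists_kernel_nhd_of_killed vW ψ.ker (fun Y y hy => by
      rw [hvW]
      obtain ⟨l, hl⟩ := exists_fac_DSmap hψ (theta W.ι (y ≫ κ)) fun m hm => (hκ Y y m).trans (hy m hm)
      rw [← hl, Category.assoc]
      exact hW _ (Over.homMk Y.hom rfl) l) b fun Y q hq y hy m hm => by
      rw [← hκ Y y m]
      refine (hb ((Over.map W.ι).obj Y) q ?_ _).1 ((hvW Y y).1 hy) m hm
      show q ≫ Red.geomPt s = Y.hom ≫ W.ι
      rw [← hq, Category.assoc, IsOpenImmersion.lift_fac]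
  refine ⟨W.ι ''ᵁ U, N, iN, hN, ψ, ⟨_, hU, ?_⟩, hψ, fun Y y hY => ?_⟩
  · show (b ≫ W.ι) _ = s
    rw [IsOpenImmersion.lift_fac, geomPt_closedPoint]
  have hYW : Set.range Y.hom ⊆ Set.range W.ι := fun x hx => by
    obtain ⟨x', -, rfl⟩ := hY hx
    exact ⟨x', rfl⟩
  let t : Y.left ⟶ (W : Scheme.{u}) := IsOpenImmersion.lift W.ι Y.hom hYW
  have ht : t ≫ W.ι = Y.hom := IsOpenImmersion.lift_fac _ _ _
  constructor
  · intro h
    let ε : (Over.map W.ι).obj (Over.mk t) ⟶ Y := Over.homMk (𝟙 Y.left) (by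
      show 𝟙 _ ≫ Y.hom = t ≫ W.ι
      rw [Category.id_comp, ht])
    obtain ⟨y', hy'⟩ := (theta_bijective W.ι).surjective (ε ≫ y)
    intro m hm
    have h1 := hUK (Over.mk t) (y' ≫ inv κ) (by
      rintro _ ⟨x, rfl⟩
      obtain ⟨x', hx', hxx⟩ := hY ⟨x, rfl⟩
      rw [SetLike.mem_coe, show (Over.mk t).hom x = x' from W.ι.isOpenEmbedding.injective
        ((congrArg (fun f : Y.left ⟶ S => f x) ht).trans hxx.symm)]
      exact hx')
      ((hvW _ _).2 (by rw [Category.assoc, IsIso.inv_hom_id, Category.comp_id, hy', Category.assoc, h,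
        MonObj.comp_one])) m hm
    rw [← hκ, Category.assoc, IsIso.inv_hom_id, Category.comp_id, hy', ev_comp] at h1
    have h2 : ((Scheme.Hom.appTop (𝟙 Y.left)).hom (ev y m)) = 1 := h1
    simpa using h2
  · intro h
    obtain ⟨l, hl⟩ := exists_fac_DSmap hψ y h
    rw [← hl, Category.assoc]
    exact hW _ (Over.homMk t ht) l

variable {H : Over S} [GrpObj H]

/-- Etale-locally the group is diagonalisable and the kernel is cut out by characters. -/
theorem exists_kernel_chart [IsSeparated G.hom] [LocallyOfFiniteType G.hom] (hH : SGA3x.IsMultTypeFT H)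
    (u : H ⟶ G) [IsMonHom u] (x : S) :
    ∃ (S' : Scheme.{u}) (f : S' ⟶ S), Etale f ∧ (∃ y, f y = x) ∧ ∃ (M N : Type) (_ : AddCommGroup M)
      (_ : AddCommGroup N) (ψ : M →+ N) (c : Red.DS S' M ⟶ Red.bc f H), AddGroup.FG M ∧ AddGroup.FG N ∧
        Function.Surjective ψ ∧ IsMonHom c ∧ IsIso c ∧
        ∀ (Y : Over S') (z : Y ⟶ Red.DS S' M),
          InKer u (theta f (z ≫ c)).left ↔ ∀ m, ψ m = 0 → ev z m = 1 := by
  obtain ⟨S₁, f₁, hf₁, ⟨y₁, hy₁⟩, M, iM, hM, ⟨e⟩⟩ := MultTypeQI.etale_locally_diag hH x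
  let a : Red.DS S₁ M ⟶ Red.bc f₁ H := e.inv.hom.hom
  haveI : IsMonHom a := e.inv.hom.isMonHom_hom
  haveI : IsIso a := ⟨e.hom.hom.hom, congrArg (fun k => k.hom.hom) e.inv_hom_id,
    congrArg (fun k => k.hom.hom) e.hom_inv_id⟩
  haveI : IsSeparated (Red.bc f₁ G).hom := inferInstanceAs (IsSeparated (pullback.snd G.hom f₁))
  haveI : LocallyOfFiniteType (Red.bc f₁ G).hom := inferInstanceAs (LocallyOfFiniteType (pullback.snd G.hom f₁))
  haveI : IsMonHom (a ≫ (Over.pullback f₁).map u) := inferInstance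
  obtain ⟨U, N, iN, hN, ψ, hyU, hψ, hker⟩ := exists_kernel_nhd (a ≫ (Over.pullback f₁).map u) y₁
  obtain ⟨κ, hκm, hκi, hκ⟩ := exists_bcPt U.ι M
  let c := κ ≫ (Over.pullback U.ι).map a ≫ (GrpLimLib.cmp (rfl : U.ι ≫ f₁ = _) H).hom
  haveI := hf₁
  haveI : IsMonHom (Red.DSmap (U : Scheme.{u}) ψ) := S5427.isMonHom_DSmap _ _
  haveI : IsMonHom (GrpLimLib.cmp (rfl : U.ι ≫ f₁ = _) H).hom := GrpLimLib.isMonHom_cmp _ H
  haveI : IsMonHom c := inferInstanceAs (IsMonHom (κ ≫ (Over.pullback U.ι).map a ≫ _))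
  haveI : IsIso c := inferInstanceAs (IsIso (κ ≫ (Over.pullback U.ι).map a ≫ _))
  refine ⟨U, U.ι ≫ f₁, inferInstance, ⟨⟨y₁, hyU⟩, by rw [← hy₁]; rfl⟩, M, N, iM, iN, ψ, c, hM, hN, hψ,
    inferInstance, inferInstance, fun Y z => ?_⟩
  have hleft : (theta (U.ι ≫ f₁) (z ≫ c)).left = (theta f₁ (theta U.ι (z ≫ κ) ≫ a)).left := by
    rw [← HomUnitLocus.theta_comp_map]
    show (z ≫ κ ≫ (Over.pullback U.ι).map a ≫ (GrpLimLib.cmp (rfl : U.ι ≫ f₁ = _) H).hom).left ≫
        pullback.fst H.hom (U.ι ≫ f₁) =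
      (((z ≫ κ) ≫ (Over.pullback U.ι).map a).left ≫ pullback.fst (Red.bc f₁ H).hom U.ι) ≫ pullback.fst H.hom f₁
    simp only [Over.comp_left, Category.assoc, GrpLimLib.cmp_hom_fst, GrpLimLib.pr]
  rw [hleft, inKer_iff, ← HomUnitLocus.theta_comp_map, ← HomUnitLocus.theta_one f₁ _,
    (theta_bijective _).injective.eq_iff, Category.assoc, hker _ _ (by
      show Set.range (Y.hom ≫ U.ι) ⊆ _
      rintro _ ⟨p, rfl⟩
      exact (Y.hom p).2)]
  refine forall_congr' fun m => imp_congr_right fun _ => ?_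
  rw [hκ]

/-- Etale-locally the kernel is a diagonalisable closed subgroup. -/
theorem exists_kernel_piece [IsSeparated G.hom] [LocallyOfFiniteType G.hom] (hH : SGA3x.IsMultTypeFT H)
    (u : H ⟶ G) [IsMonHom u] (x : S) :
    ∃ (S' : Scheme.{u}) (f : S' ⟶ S), Etale f ∧ (∃ y, f y = x) ∧ ∃ (N : Type) (_ : AddCommGroup N)
      (k : Red.DS S' N ⟶ Red.bc f H), AddGroup.FG N ∧ IsMonHom k ∧ IsClosedImmersion k.left ∧
        ∀ (Y : Over S') (y : Y ⟶ Red.bc f H), InKer u (theta f y).left ↔ ∃ l, l ≫ k = y := by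
  obtain ⟨S', f, hf, hx, M, N, iM, iN, ψ, c, hM, hN, hψ, hc, hci, hker⟩ := exists_kernel_chart hH u x
  haveI := hc; haveI := hci; haveI := hf
  haveI : IsMonHom (Red.DSmap S' ψ) := S5427.isMonHom_DSmap _ _
  refine ⟨S', f, hf, hx, N, iN, Red.DSmap S' ψ ≫ c, hN, inferInstance, ?_, fun Y y => ?_⟩
  · haveI := S5427.isClosedImmersion_DSmap S' ψ hψ
    haveI : IsIso c.left := inferInstanceAs (IsIso ((Over.forget _).map c))
    rw [Over.comp_left]
    infer_instance
  obtain ⟨z, rfl⟩ : ∃ z, z ≫ c = y := ⟨y ≫ inv c, by simp⟩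
  rw [hker]
  constructor
  · intro h
    obtain ⟨l, hl⟩ := exists_fac_DSmap hψ z h
    exact ⟨l, by rw [← Category.assoc, hl]⟩
  · rintro ⟨l, hl⟩ m hm
    rw [← Category.assoc, cancel_mono] at hl
    rw [← hl, ev_DSmap, hm, ev_zero]

/-- The kernel of a homomorphism from a group of multiplicative type to a separated group is of multiplicative
type. -/
theorem exists_kernel [IsSeparated G.hom] [LocallyOfFiniteType G.hom] (hH : SGA3x.IsMultTypeFT H) (u : H ⟶ G)
    [IsMonHom u] :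
    ∃ (K : Over S) (_ : GrpObj K) (i : K ⟶ H), IsMonHom i ∧ Mono i ∧ SGA3x.IsMultTypeFT K ∧
      ∀ (Y : Over S) (h : Y ⟶ H), h ≫ u = 1 ↔ ∃ l, l ≫ i = h := by
  choose S' f hf hy N iN k hN hk hkc hchar using fun x => exists_kernel_piece hH u x
  obtain ⟨K, iK, i, hi, him, hall⟩ := exists_subgroup_of_local (fun c => InKer u c) (isLocalSubgroup_inKer u)
    S' f hf (fun x => ⟨x, hy x⟩) (fun x => Red.DS (S' x) (N x)) k hkc hchar
  haveI := hi
  haveI := him
  exact ⟨K, iK, i, hi, him, isMultTypeFT_of_pieces i (fun c => InKer u c) hall (fun x => ⟨S' x, f x, hf x, hy x,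
    N x, iN x, k x, hN x, hk x, hkc x, hchar x⟩), fun Y h => by rw [← inKer_iff]; exact hall Y h⟩

end Groth.Agent.MultTypeImage
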